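import Cfsg.Agent.Lib.Helper21.HNTrans.Tree
set_option autoImplicit false
set_option maxRecDepth 100000
set_option maxHeartbeats 0

namespace Cfsg.Agent.Lib.Helper21.HNTrans.C0
open Cfsg.Agent.Lib.Helper28.TC2Upper Cfsg.Agent.Lib.Helper28.TC2Lower Cfsg.Agent.Lib.Helper28.TC2Range Cfsg.Agent.Lib.Helper21.HNTrans

theorem tr0 : Table.treeRange tableT 0 24100 = true := by decide +kernel
theorem tr1 : Table.treeRange tableT 24100 24100 = true := by decide +kernel
theorem tr2 : Table.treeRange tableT 48200 24100 = true := by decide +kernel
theorem tr3 : Table.treeRange tableT 72300 24100 = true := by decide +kernel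
theorem tr4 : Table.treeRange tableT 96400 24100 = true := by decide +kernel
theorem tr5 : Table.treeRange tableT 120500 24100 = true := by decide +kernel
theorem tr6 : Table.treeRange tableT 144600 24100 = true := by decide +kernel
theorem tr7 : Table.treeRange tableT 168700 24100 = true := by decide +kernel

end Cfsg.Agent.Lib.Helper21.HNTrans.C0
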