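import Cfsg.Agent.Lib.Helper21.HNTrans.Tree
set_option autoImplicit false
set_option maxRecDepth 100000
set_option maxHeartbeats 0

namespace Cfsg.Agent.Lib.Helper21.HNTrans.C1
open Cfsg.Agent.Lib.Helper28.TC2Upper Cfsg.Agent.Lib.Helper28.TC2Lower Cfsg.Agent.Lib.Helper28.TC2Range Cfsg.Agent.Lib.Helper21.HNTrans

theorem tr8 : Table.treeRange tableT 192800 24100 = true := by decide +kernel
theorem tr9 : Table.treeRange tableT 216900 24100 = true := by decide +kernel
theorem tr10 : Table.treeRange tableT 241000 24100 = true := by decide +kernel
theorem tr11 : Table.treeRange tableT 265100 24100 = true := by decide +kernel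
theorem tr12 : Table.treeRange tableT 289200 24100 = true := by decide +kernel
theorem tr13 : Table.treeRange tableT 313300 24100 = true := by decide +kernel
theorem tr14 : Table.treeRange tableT 337400 24100 = true := by decide +kernel
theorem tr15 : Table.treeRange tableT 361500 24100 = true := by decide +kernel

end Cfsg.Agent.Lib.Helper21.HNTrans.C1
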