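import Cfsg.Agent.Lib.Helper21.HNTrans.Tree
set_option autoImplicit false
set_option maxRecDepth 100000
set_option maxHeartbeats 0

namespace Cfsg.Agent.Lib.Helper21.HNTrans.C2
open Cfsg.Agent.Lib.Helper28.TC2Upper Cfsg.Agent.Lib.Helper28.TC2Lower Cfsg.Agent.Lib.Helper28.TC2Range Cfsg.Agent.Lib.Helper21.HNTrans

theorem tr16 : Table.treeRange tableT 385600 24100 = true := by decide +kernel
theorem tr17 : Table.treeRange tableT 409700 24100 = true := by decide +kernel
theorem tr18 : Table.treeRange tableT 433800 24100 = true := by decide +kernel
theorem tr19 : Table.treeRange tableT 457900 24100 = true := by decide +kernel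
theorem tr20 : Table.treeRange tableT 482000 24100 = true := by decide +kernel
theorem tr21 : Table.treeRange tableT 506100 24100 = true := by decide +kernel
theorem tr22 : Table.treeRange tableT 530200 24100 = true := by decide +kernel
theorem tr23 : Table.treeRange tableT 554300 24100 = true := by decide +kernel

end Cfsg.Agent.Lib.Helper21.HNTrans.C2
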