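import Cfsg.Agent.Lib.Helper21.HNTrans.Tree
set_option autoImplicit false
set_option maxRecDepth 100000
set_option maxHeartbeats 0

namespace Cfsg.Agent.Lib.Helper21.HNTrans.C3
open Cfsg.Agent.Lib.Helper28.TC2Upper Cfsg.Agent.Lib.Helper28.TC2Lower Cfsg.Agent.Lib.Helper28.TC2Range Cfsg.Agent.Lib.Helper21.HNTrans

theorem tr24 : Table.treeRange tableT 578400 24100 = true := by decide +kernel
theorem tr25 : Table.treeRange tableT 602500 24100 = true := by decide +kernel
theorem tr26 : Table.treeRange tableT 626600 24100 = true := by decide +kernel
theorem tr27 : Table.treeRange tableT 650700 24100 = true := by decide +kernel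
theorem tr28 : Table.treeRange tableT 674800 24100 = true := by decide +kernel
theorem tr29 : Table.treeRange tableT 698900 24100 = true := by decide +kernel
theorem tr30 : Table.treeRange tableT 723000 24100 = true := by decide +kernel
theorem tr31 : Table.treeRange tableT 747100 24100 = true := by decide +kernel

end Cfsg.Agent.Lib.Helper21.HNTrans.C3
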