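import Cfsg.Agent.Lib.Helper21.HNTrans.Tree
set_option autoImplicit false
set_option maxRecDepth 100000
set_option maxHeartbeats 0

namespace Cfsg.Agent.Lib.Helper21.HNTrans.C4
open Cfsg.Agent.Lib.Helper28.TC2Upper Cfsg.Agent.Lib.Helper28.TC2Lower Cfsg.Agent.Lib.Helper28.TC2Range Cfsg.Agent.Lib.Helper21.HNTrans

theorem tr32 : Table.treeRange tableT 771200 24100 = true := by decide +kernel
theorem tr33 : Table.treeRange tableT 795300 24100 = true := by decide +kernel
theorem tr34 : Table.treeRange tableT 819400 24100 = true := by decide +kernel
theorem tr35 : Table.treeRange tableT 843500 24100 = true := by decide +kernel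
theorem tr36 : Table.treeRange tableT 867600 24100 = true := by decide +kernel
theorem tr37 : Table.treeRange tableT 891700 24100 = true := by decide +kernel
theorem tr38 : Table.treeRange tableT 915800 24100 = true := by decide +kernel
theorem tr39 : Table.treeRange tableT 939900 24100 = true := by decide +kernel

end Cfsg.Agent.Lib.Helper21.HNTrans.C4
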