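import Cfsg.Agent.Lib.Helper21.HNTrans.Tree
set_option autoImplicit false
set_option maxRecDepth 100000
set_option maxHeartbeats 0

namespace Cfsg.Agent.Lib.Helper21.HNTrans.C5
open Cfsg.Agent.Lib.Helper28.TC2Upper Cfsg.Agent.Lib.Helper28.TC2Lower Cfsg.Agent.Lib.Helper28.TC2Range Cfsg.Agent.Lib.Helper21.HNTrans

theorem tr40 : Table.treeRange tableT 964000 24100 = true := by decide +kernel
theorem tr41 : Table.treeRange tableT 988100 24100 = true := by decide +kernel
theorem tr42 : Table.treeRange tableT 1012200 24100 = true := by decide +kernel
theorem tr43 : Table.treeRange tableT 1036300 24100 = true := by decide +kernel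
theorem tr44 : Table.treeRange tableT 1060400 24100 = true := by decide +kernel
theorem tr45 : Table.treeRange tableT 1084500 24100 = true := by decide +kernel
theorem tr46 : Table.treeRange tableT 1108600 24100 = true := by decide +kernel
theorem tr47 : Table.treeRange tableT 1132700 24100 = true := by decide +kernel

end Cfsg.Agent.Lib.Helper21.HNTrans.C5
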