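import Cfsg.Agent.Lib.Helper21.HNTrans.Tree
set_option autoImplicit false
set_option maxRecDepth 100000
set_option maxHeartbeats 0

namespace Cfsg.Agent.Lib.Helper21.HNTrans.C6
open Cfsg.Agent.Lib.Helper28.TC2Upper Cfsg.Agent.Lib.Helper28.TC2Lower Cfsg.Agent.Lib.Helper28.TC2Range Cfsg.Agent.Lib.Helper21.HNTrans

theorem tr48 : Table.treeRange tableT 1156800 24100 = true := by decide +kernel
theorem tr49 : Table.treeRange tableT 1180900 24100 = true := by decide +kernel
theorem tr50 : Table.treeRange tableT 1205000 24100 = true := by decide +kernel
theorem tr51 : Table.treeRange tableT 1229100 24100 = true := by decide +kernel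
theorem tr52 : Table.treeRange tableT 1253200 24100 = true := by decide +kernel
theorem tr53 : Table.treeRange tableT 1277300 24100 = true := by decide +kernel
theorem tr54 : Table.treeRange tableT 1301400 24100 = true := by decide +kernel
theorem tr55 : Table.treeRange tableT 1325500 24100 = true := by decide +kernel

end Cfsg.Agent.Lib.Helper21.HNTrans.C6
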