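import Cfsg.Agent.Lib.Helper21.HNTrans.Tree
set_option autoImplicit false
set_option maxRecDepth 100000
set_option maxHeartbeats 0

namespace Cfsg.Agent.Lib.Helper21.HNTrans.C7
open Cfsg.Agent.Lib.Helper28.TC2Upper Cfsg.Agent.Lib.Helper28.TC2Lower Cfsg.Agent.Lib.Helper28.TC2Range Cfsg.Agent.Lib.Helper21.HNTrans

theorem tr56 : Table.treeRange tableT 1349600 24100 = true := by decide +kernel
theorem tr57 : Table.treeRange tableT 1373700 24100 = true := by decide +kernel
theorem tr58 : Table.treeRange tableT 1397800 24100 = true := by decide +kernel
theorem tr59 : Table.treeRange tableT 1421900 24100 = true := by decide +kernel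
theorem tr60 : Table.treeRange tableT 1446000 24100 = true := by decide +kernel
theorem tr61 : Table.treeRange tableT 1470100 24100 = true := by decide +kernel
theorem tr62 : Table.treeRange tableT 1494200 24100 = true := by decide +kernel
theorem tr63 : Table.treeRange tableT 1518300 20699 = true := by decide +kernel

end Cfsg.Agent.Lib.Helper21.HNTrans.C7
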