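import Cfsg.Agent.Lib.Helper21.HNTrans.C0
import Cfsg.Agent.Lib.Helper21.HNTrans.C1
import Cfsg.Agent.Lib.Helper21.HNTrans.C2
import Cfsg.Agent.Lib.Helper21.HNTrans.C3
import Cfsg.Agent.Lib.Helper21.HNTrans.C4
import Cfsg.Agent.Lib.Helper21.HNTrans.C5
import Cfsg.Agent.Lib.Helper21.HNTrans.C6
import Cfsg.Agent.Lib.Helper21.HNTrans.C7
set_option autoImplicit false
set_option maxRecDepth 100000

/-!
# Transitivity of helper16's permutation representation of `HN` on 1539000 points

Every point of the coset table is reached from the point `0` by a path of letters.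
-/

namespace Cfsg.Agent.Lib.Helper21.HNTrans
open Cfsg.Agent.Lib.Helper28.TC2Upper Cfsg.Agent.Lib.Helper28.TC2Lower Cfsg.Agent.Lib.Helper28.TC2Range Cfsg.Agent.Lib.Helper16.HNP.Table

theorem tau_eq (l p : ℕ) : tableT.tau l p = table.tau l p := rfl

/-- all rows up to a bound -/
def RowsUpTo (m : ℕ) : Prop := ∀ i, i < m → Table.treeRow tableT i = true

theorem rows_step {lo cnt : ℕ} (h : RowsUpTo lo) (hr : Table.treeRange tableT lo cnt = true) :
    RowsUpTo (lo + cnt) := by
  intro i hi
  rcases Nat.lt_or_ge i lo with h1 | h1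
  · exact h i h1
  · exact (Table.treeRange_iff tableT lo cnt).mp hr i h1 hi

theorem rows0 : RowsUpTo 0 := fun i hi => absurd hi (Nat.not_lt_zero i)
theorem rows1 : RowsUpTo 24100 := rows_step rows0 C0.tr0
theorem rows2 : RowsUpTo 48200 := rows_step rows1 C0.tr1
theorem rows3 : RowsUpTo 72300 := rows_step rows2 C0.tr2
theorem rows4 : RowsUpTo 96400 := rows_step rows3 C0.tr3
theorem rows5 : RowsUpTo 120500 := rows_step rows4 C0.tr4
theorem rows6 : RowsUpTo 144600 := rows_step rows5 C0.tr5
theorem rows7 : RowsUpTo 168700 := rows_step rows6 C0.tr6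
theorem rows8 : RowsUpTo 192800 := rows_step rows7 C0.tr7
theorem rows9 : RowsUpTo 216900 := rows_step rows8 C1.tr8
theorem rows10 : RowsUpTo 241000 := rows_step rows9 C1.tr9
theorem rows11 : RowsUpTo 265100 := rows_step rows10 C1.tr10
theorem rows12 : RowsUpTo 289200 := rows_step rows11 C1.tr11
theorem rows13 : RowsUpTo 313300 := rows_step rows12 C1.tr12
theorem rows14 : RowsUpTo 337400 := rows_step rows13 C1.tr13
theorem rows15 : RowsUpTo 361500 := rows_step rows14 C1.tr14
theorem rows16 : RowsUpTo 385600 := rows_step rows15 C1.tr15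
theorem rows17 : RowsUpTo 409700 := rows_step rows16 C2.tr16
theorem rows18 : RowsUpTo 433800 := rows_step rows17 C2.tr17
theorem rows19 : RowsUpTo 457900 := rows_step rows18 C2.tr18
theorem rows20 : RowsUpTo 482000 := rows_step rows19 C2.tr19
theorem rows21 : RowsUpTo 506100 := rows_step rows20 C2.tr20
theorem rows22 : RowsUpTo 530200 := rows_step rows21 C2.tr21
theorem rows23 : RowsUpTo 554300 := rows_step rows22 C2.tr22
theorem rows24 : RowsUpTo 578400 := rows_step rows23 C2.tr23
theorem rows25 : RowsUpTo 602500 := rows_step rows24 C3.tr24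
theorem rows26 : RowsUpTo 626600 := rows_step rows25 C3.tr25
theorem rows27 : RowsUpTo 650700 := rows_step rows26 C3.tr26
theorem rows28 : RowsUpTo 674800 := rows_step rows27 C3.tr27
theorem rows29 : RowsUpTo 698900 := rows_step rows28 C3.tr28
theorem rows30 : RowsUpTo 723000 := rows_step rows29 C3.tr29
theorem rows31 : RowsUpTo 747100 := rows_step rows30 C3.tr30
theorem rows32 : RowsUpTo 771200 := rows_step rows31 C3.tr31
theorem rows33 : RowsUpTo 795300 := rows_step rows32 C4.tr32
theorem rows34 : RowsUpTo 819400 := rows_step rows33 C4.tr33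
theorem rows35 : RowsUpTo 843500 := rows_step rows34 C4.tr34
theorem rows36 : RowsUpTo 867600 := rows_step rows35 C4.tr35
theorem rows37 : RowsUpTo 891700 := rows_step rows36 C4.tr36
theorem rows38 : RowsUpTo 915800 := rows_step rows37 C4.tr37
theorem rows39 : RowsUpTo 939900 := rows_step rows38 C4.tr38
theorem rows40 : RowsUpTo 964000 := rows_step rows39 C4.tr39
theorem rows41 : RowsUpTo 988100 := rows_step rows40 C5.tr40
theorem rows42 : RowsUpTo 1012200 := rows_step rows41 C5.tr41
theorem rows43 : RowsUpTo 1036300 := rows_step rows42 C5.tr42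
theorem rows44 : RowsUpTo 1060400 := rows_step rows43 C5.tr43
theorem rows45 : RowsUpTo 1084500 := rows_step rows44 C5.tr44
theorem rows46 : RowsUpTo 1108600 := rows_step rows45 C5.tr45
theorem rows47 : RowsUpTo 1132700 := rows_step rows46 C5.tr46
theorem rows48 : RowsUpTo 1156800 := rows_step rows47 C5.tr47
theorem rows49 : RowsUpTo 1180900 := rows_step rows48 C6.tr48
theorem rows50 : RowsUpTo 1205000 := rows_step rows49 C6.tr49
theorem rows51 : RowsUpTo 1229100 := rows_step rows50 C6.tr50
theorem rows52 : RowsUpTo 1253200 := rows_step rows51 C6.tr51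
theorem rows53 : RowsUpTo 1277300 := rows_step rows52 C6.tr52
theorem rows54 : RowsUpTo 1301400 := rows_step rows53 C6.tr53
theorem rows55 : RowsUpTo 1325500 := rows_step rows54 C6.tr54
theorem rows56 : RowsUpTo 1349600 := rows_step rows55 C6.tr55
theorem rows57 : RowsUpTo 1373700 := rows_step rows56 C7.tr56
theorem rows58 : RowsUpTo 1397800 := rows_step rows57 C7.tr57
theorem rows59 : RowsUpTo 1421900 := rows_step rows58 C7.tr58
theorem rows60 : RowsUpTo 1446000 := rows_step rows59 C7.tr59
theorem rows61 : RowsUpTo 1470100 := rows_step rows60 C7.tr60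
theorem rows62 : RowsUpTo 1494200 := rows_step rows61 C7.tr61
theorem rows63 : RowsUpTo 1518300 := rows_step rows62 C7.tr62
theorem rows64 : RowsUpTo 1538999 := rows_step rows63 C7.tr63

theorem rows : ∀ i, i < 1538999 → Table.treeRow tableT i = true := rows64

/-- transitivity: every point is reached from `0` -/
theorem trans : ∀ p, p < Cfsg.Agent.Lib.Helper16.HNP.Table.table.n →
    ∃ w : List ℕ, (∀ l ∈ w, l < 7) ∧ Cfsg.Agent.Lib.Helper16.HNP.Table.table.walkT w 0 = p := by
  intro p
  induction p using Nat.strong_induction_on with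
  | _ p ih =>
    intro hp
    rcases p with _ | i
    · exact ⟨[], by simp, rfl⟩
    · have hi : i < 1538999 := by
        have : i + 1 < 1539000 := hp
        omega
      have h := rows i hi
      unfold Table.treeRow at h
      rw [Bool.and_eq_true, Bool.and_eq_true, Nat.ble_eq, Nat.ble_eq, Data.nbeq_iff] at h
      obtain ⟨⟨h1, h2⟩, h3⟩ := h
      have h2' : Nat.div (tableT.tslot (Nat.succ i)) tableT.M < 7 := h2
      have hq : Nat.mod (tableT.tslot (Nat.succ i)) tableT.M < 1539000 := by
        have : i + 1 < 1539000 := hp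
        omega
      obtain ⟨w, hw, hw0⟩ := ih _ (Nat.lt_succ_of_le h1) hq
      refine ⟨w ++ [Nat.div (tableT.tslot (Nat.succ i)) tableT.M], ?_, ?_⟩
      · intro l hl
        rcases List.mem_append.mp hl with h | h
        · exact hw l h
        · rw [List.mem_singleton] at h
          rw [h]; exact h2'
      · rw [Table.walkT_append, hw0, Table.walkT_cons, Table.walkT_nil, ← tau_eq]
        exact h3

end Cfsg.Agent.Lib.Helper21.HNTrans
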