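import Cfsg.Agent.Lib.Helper21.HNTrans.D0
import Cfsg.Agent.Lib.Helper21.HNTrans.D1
import Cfsg.Agent.Lib.Helper21.HNTrans.D2
import Cfsg.Agent.Lib.Helper21.HNTrans.D3
import Cfsg.Agent.Lib.Helper16.HNP.Table
import Cfsg.Agent.Lib.Helper28.TC2Range
set_option autoImplicit false
set_option maxRecDepth 100000

/-! The coset table of helper16 with a spanning tree: every point other than `0` is the image of a smaller point. -/

namespace Cfsg.Agent.Lib.Helper21.HNTrans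
open Cfsg.Agent.Lib.Helper28.TC2Upper Cfsg.Agent.Lib.Helper28.TC2Lower Cfsg.Agent.Lib.Helper16.HNP.Table Cfsg.Agent.Lib.Helper21.HNTrans.D

/-- tree chunks 0..93 -/
noncomputable def treeT_0 : BT ℕ := (BT.node 46 (BT.node 23 (BT.node 11 (BT.node 5 (BT.node 2 (BT.node 1 (BT.node 0 (BT.leaf pT0) (BT.leaf pT1)) (BT.leaf pT2)) (BT.node 4 (BT.node 3 (BT.leaf pT3) (BT.leaf pT4)) (BT.leaf pT5))) (BT.node 8 (BT.node 7 (BT.node 6 (BT.leaf pT6) (BT.leaf pT7)) (BT.leaf pT8)) (BT.node 10 (BT.node 9 (BT.leaf pT9) (BT.leaf pT10)) (BT.leaf pT11)))) (BT.node 17 (BT.node 14 (BT.node 13 (BT.node 12 (BT.leaf pT12) (BT.leaf pT13)) (BT.leaf pT14)) (BT.node 16 (BT.node 15 (BT.leaf pT15) (BT.leaf pT16)) (BT.leaf pT17))) (BT.node 20 (BT.node 19 (BT.node 18 (BT.leaf pT18) (BT.leaf pT19)) (BT.leaf pT20)) (BT.node 22 (BT.node 21 (BT.leaf pT21) (BT.leaf pT22)) (BT.leaf pT23))))) (BT.node 35 (BT.node 29 (BT.node 26 (BT.node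 25 (BT.node 24 (BT.leaf pT24) (BT.leaf pT25)) (BT.leaf pT26)) (BT.node 28 (BT.node 27 (BT.leaf pT27) (BT.leaf pT28)) (BT.leaf pT29))) (BT.node 32 (BT.node 31 (BT.node 30 (BT.leaf pT30) (BT.leaf pT31)) (BT.leaf pT32)) (BT.node 34 (BT.node 33 (BT.leaf pT33) (BT.leaf pT34)) (BT.leaf pT35)))) (BT.node 41 (BT.node 38 (BT.node 37 (BT.node 36 (BT.leaf pT36) (BT.leaf pT37)) (BT.leaf pT38)) (BT.node 40 (BT.node 39 (BT.leaf pT39) (BT.leaf pT40)) (BT.leaf pT41))) (BT.node 44 (BT.node 43 (BT.node 42 (BT.leaf pT42) (BT.leaf pT43)) (BT.leaf pT44)) (BT.node 45 (BT.leaf pT45) (BT.leaf pT46)))))) (BT.node 70 (BT.node 58 (BT.node 52 (BT.node 49 (BT.node 48 (BT.node 47 (BT.leaf pT47) (BT.leaf pT48)) (BT.leaf pT49)) (BT.node 51 (BT.node 50 (BT.leaf pT50) (BT.leaf pT51)) (BT.leaf pT52))) (BT.node 55 (BT.node 54 (BT.node 53 (BT.leaf pT53) (BT.leaf pT54)) (BT.leaf pT55)) (BT.node 57 (BT.node 56 (BT.leaf pT56) (BT.leaf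 pT57)) (BT.leaf pT58)))) (BT.node 64 (BT.node 61 (BT.node 60 (BT.node 59 (BT.leaf pT59) (BT.leaf pT60)) (BT.leaf pT61)) (BT.node 63 (BT.node 62 (BT.leaf pT62) (BT.leaf pT63)) (BT.leaf pT64))) (BT.node 67 (BT.node 66 (BT.node 65 (BT.leaf pT65) (BT.leaf pT66)) (BT.leaf pT67)) (BT.node 69 (BT.node 68 (BT.leaf pT68) (BT.leaf pT69)) (BT.leaf pT70))))) (BT.node 82 (BT.node 76 (BT.node 73 (BT.node 72 (BT.node 71 (BT.leaf pT71) (BT.leaf pT72)) (BT.leaf pT73)) (BT.node 75 (BT.node 74 (BT.leaf pT74) (BT.leaf pT75)) (BT.leaf pT76))) (BT.node 79 (BT.node 78 (BT.node 77 (BT.leaf pT77) (BT.leaf pT78)) (BT.leaf pT79)) (BT.node 81 (BT.node 80 (BT.leaf pT80) (BT.leaf pT81)) (BT.leaf pT82)))) (BT.node 88 (BT.node 85 (BT.node 84 (BT.node 83 (BT.leaf pT83) (BT.leaf pT84)) (BT.leaf pT85)) (BT.node 87 (BT.node 86 (BT.leaf pT86) (BT.leaf pT87)) (BT.leaf pT88))) (BT.node 91 (BT.node 90 (BT.node 89 (BT.leaf pT89)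 (BT.leaf pT90)) (BT.leaf pT91)) (BT.node 92 (BT.leaf pT92) (BT.leaf pT93)))))))
/-- tree chunks 94..187 -/
noncomputable def treeT_1 : BT ℕ := (BT.node 140 (BT.node 117 (BT.node 105 (BT.node 99 (BT.node 96 (BT.node 95 (BT.node 94 (BT.leaf pT94) (BT.leaf pT95)) (BT.leaf pT96)) (BT.node 98 (BT.node 97 (BT.leaf pT97) (BT.leaf pT98)) (BT.leaf pT99))) (BT.node 102 (BT.node 101 (BT.node 100 (BT.leaf pT100) (BT.leaf pT101)) (BT.leaf pT102)) (BT.node 104 (BT.node 103 (BT.leaf pT103) (BT.leaf pT104)) (BT.leaf pT105)))) (BT.node 111 (BT.node 108 (BT.node 107 (BT.node 106 (BT.leaf pT106) (BT.leaf pT107)) (BT.leaf pT108)) (BT.node 110 (BT.node 109 (BT.leaf pT109) (BT.leaf pT110)) (BT.leaf pT111))) (BT.node 114 (BT.node 113 (BT.node 112 (BT.leaf pT112) (BT.leaf pT113)) (BT.leaf pT114)) (BT.node 116 (BT.node 115 (BT.leaf pT115) (BT.leaf pT116)) (BT.leaf pT117))))) (BT.node 129 (BT.node 123 (BT.node 120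 (BT.node 119 (BT.node 118 (BT.leaf pT118) (BT.leaf pT119)) (BT.leaf pT120)) (BT.node 122 (BT.node 121 (BT.leaf pT121) (BT.leaf pT122)) (BT.leaf pT123))) (BT.node 126 (BT.node 125 (BT.node 124 (BT.leaf pT124) (BT.leaf pT125)) (BT.leaf pT126)) (BT.node 128 (BT.node 127 (BT.leaf pT127) (BT.leaf pT128)) (BT.leaf pT129)))) (BT.node 135 (BT.node 132 (BT.node 131 (BT.node 130 (BT.leaf pT130) (BT.leaf pT131)) (BT.leaf pT132)) (BT.node 134 (BT.node 133 (BT.leaf pT133) (BT.leaf pT134)) (BT.leaf pT135))) (BT.node 138 (BT.node 137 (BT.node 136 (BT.leaf pT136) (BT.leaf pT137)) (BT.leaf pT138)) (BT.node 139 (BT.leaf pT139) (BT.leaf pT140)))))) (BT.node 164 (BT.node 152 (BT.node 146 (BT.node 143 (BT.node 142 (BT.node 141 (BT.leaf pT141) (BT.leaf pT142)) (BT.leaf pT143)) (BT.node 145 (BT.node 144 (BT.leaf pT144) (BT.leaf pT145)) (BT.leaf pT146))) (BT.node 149 (BT.node 148 (BT.node 147 (BT.leaf pT147) (BT.leaf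 pT148)) (BT.leaf pT149)) (BT.node 151 (BT.node 150 (BT.leaf pT150) (BT.leaf pT151)) (BT.leaf pT152)))) (BT.node 158 (BT.node 155 (BT.node 154 (BT.node 153 (BT.leaf pT153) (BT.leaf pT154)) (BT.leaf pT155)) (BT.node 157 (BT.node 156 (BT.leaf pT156) (BT.leaf pT157)) (BT.leaf pT158))) (BT.node 161 (BT.node 160 (BT.node 159 (BT.leaf pT159) (BT.leaf pT160)) (BT.leaf pT161)) (BT.node 163 (BT.node 162 (BT.leaf pT162) (BT.leaf pT163)) (BT.leaf pT164))))) (BT.node 176 (BT.node 170 (BT.node 167 (BT.node 166 (BT.node 165 (BT.leaf pT165) (BT.leaf pT166)) (BT.leaf pT167)) (BT.node 169 (BT.node 168 (BT.leaf pT168) (BT.leaf pT169)) (BT.leaf pT170))) (BT.node 173 (BT.node 172 (BT.node 171 (BT.leaf pT171) (BT.leaf pT172)) (BT.leaf pT173)) (BT.node 175 (BT.node 174 (BT.leaf pT174) (BT.leaf pT175)) (BT.leaf pT176)))) (BT.node 182 (BT.node 179 (BT.node 178 (BT.node 177 (BT.leaf pT177) (BT.leaf pT178)) (BT.leaf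 pT179)) (BT.node 181 (BT.node 180 (BT.leaf pT180) (BT.leaf pT181)) (BT.leaf pT182))) (BT.node 185 (BT.node 184 (BT.node 183 (BT.leaf pT183) (BT.leaf pT184)) (BT.leaf pT185)) (BT.node 186 (BT.leaf pT186) (BT.leaf pT187)))))))
/-- tree chunks 188..281 -/
noncomputable def treeT_2 : BT ℕ := (BT.node 234 (BT.node 211 (BT.node 199 (BT.node 193 (BT.node 190 (BT.node 189 (BT.node 188 (BT.leaf pT188) (BT.leaf pT189)) (BT.leaf pT190)) (BT.node 192 (BT.node 191 (BT.leaf pT191) (BT.leaf pT192)) (BT.leaf pT193))) (BT.node 196 (BT.node 195 (BT.node 194 (BT.leaf pT194) (BT.leaf pT195)) (BT.leaf pT196)) (BT.node 198 (BT.node 197 (BT.leaf pT197) (BT.leaf pT198)) (BT.leaf pT199)))) (BT.node 205 (BT.node 202 (BT.node 201 (BT.node 200 (BT.leaf pT200) (BT.leaf pT201)) (BT.leaf pT202)) (BT.node 204 (BT.node 203 (BT.leaf pT203) (BT.leaf pT204)) (BT.leaf pT205))) (BT.node 208 (BT.node 207 (BT.node 206 (BT.leaf pT206)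 (BT.leaf pT207)) (BT.leaf pT208)) (BT.node 210 (BT.node 209 (BT.leaf pT209) (BT.leaf pT210)) (BT.leaf pT211))))) (BT.node 223 (BT.node 217 (BT.node 214 (BT.node 213 (BT.node 212 (BT.leaf pT212) (BT.leaf pT213)) (BT.leaf pT214)) (BT.node 216 (BT.node 215 (BT.leaf pT215) (BT.leaf pT216)) (BT.leaf pT217))) (BT.node 220 (BT.node 219 (BT.node 218 (BT.leaf pT218) (BT.leaf pT219)) (BT.leaf pT220)) (BT.node 222 (BT.node 221 (BT.leaf pT221) (BT.leaf pT222)) (BT.leaf pT223)))) (BT.node 229 (BT.node 226 (BT.node 225 (BT.node 224 (BT.leaf pT224) (BT.leaf pT225)) (BT.leaf pT226)) (BT.node 228 (BT.node 227 (BT.leaf pT227) (BT.leaf pT228)) (BT.leaf pT229))) (BT.node 232 (BT.node 231 (BT.node 230 (BT.leaf pT230) (BT.leaf pT231)) (BT.leaf pT232)) (BT.node 233 (BT.leaf pT233) (BT.leaf pT234)))))) (BT.node 258 (BT.node 246 (BT.node 240 (BT.node 237 (BT.node 236 (BT.node 235 (BT.leaf pT235) (BT.leaf pT236)) (BT.leaf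 pT237)) (BT.node 239 (BT.node 238 (BT.leaf pT238) (BT.leaf pT239)) (BT.leaf pT240))) (BT.node 243 (BT.node 242 (BT.node 241 (BT.leaf pT241) (BT.leaf pT242)) (BT.leaf pT243)) (BT.node 245 (BT.node 244 (BT.leaf pT244) (BT.leaf pT245)) (BT.leaf pT246)))) (BT.node 252 (BT.node 249 (BT.node 248 (BT.node 247 (BT.leaf pT247) (BT.leaf pT248)) (BT.leaf pT249)) (BT.node 251 (BT.node 250 (BT.leaf pT250) (BT.leaf pT251)) (BT.leaf pT252))) (BT.node 255 (BT.node 254 (BT.node 253 (BT.leaf pT253) (BT.leaf pT254)) (BT.leaf pT255)) (BT.node 257 (BT.node 256 (BT.leaf pT256) (BT.leaf pT257)) (BT.leaf pT258))))) (BT.node 270 (BT.node 264 (BT.node 261 (BT.node 260 (BT.node 259 (BT.leaf pT259) (BT.leaf pT260)) (BT.leaf pT261)) (BT.node 263 (BT.node 262 (BT.leaf pT262) (BT.leaf pT263)) (BT.leaf pT264))) (BT.node 267 (BT.node 266 (BT.node 265 (BT.leaf pT265) (BT.leaf pT266)) (BT.leaf pT267)) (BT.node 269 (BT.node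 268 (BT.leaf pT268) (BT.leaf pT269)) (BT.leaf pT270)))) (BT.node 276 (BT.node 273 (BT.node 272 (BT.node 271 (BT.leaf pT271) (BT.leaf pT272)) (BT.leaf pT273)) (BT.node 275 (BT.node 274 (BT.leaf pT274) (BT.leaf pT275)) (BT.leaf pT276))) (BT.node 279 (BT.node 278 (BT.node 277 (BT.leaf pT277) (BT.leaf pT278)) (BT.leaf pT279)) (BT.node 280 (BT.leaf pT280) (BT.leaf pT281)))))))
/-- tree chunks 282..375 -/
noncomputable def treeT_3 : BT ℕ := (BT.node 328 (BT.node 305 (BT.node 293 (BT.node 287 (BT.node 284 (BT.node 283 (BT.node 282 (BT.leaf pT282) (BT.leaf pT283)) (BT.leaf pT284)) (BT.node 286 (BT.node 285 (BT.leaf pT285) (BT.leaf pT286)) (BT.leaf pT287))) (BT.node 290 (BT.node 289 (BT.node 288 (BT.leaf pT288) (BT.leaf pT289)) (BT.leaf pT290)) (BT.node 292 (BT.node 291 (BT.leaf pT291) (BT.leaf pT292)) (BT.leaf pT293)))) (BT.node 299 (BT.node 296 (BT.node 295 (BT.node 294 (BT.leaf pT294) (BT.leaf pT295))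 (BT.leaf pT296)) (BT.node 298 (BT.node 297 (BT.leaf pT297) (BT.leaf pT298)) (BT.leaf pT299))) (BT.node 302 (BT.node 301 (BT.node 300 (BT.leaf pT300) (BT.leaf pT301)) (BT.leaf pT302)) (BT.node 304 (BT.node 303 (BT.leaf pT303) (BT.leaf pT304)) (BT.leaf pT305))))) (BT.node 317 (BT.node 311 (BT.node 308 (BT.node 307 (BT.node 306 (BT.leaf pT306) (BT.leaf pT307)) (BT.leaf pT308)) (BT.node 310 (BT.node 309 (BT.leaf pT309) (BT.leaf pT310)) (BT.leaf pT311))) (BT.node 314 (BT.node 313 (BT.node 312 (BT.leaf pT312) (BT.leaf pT313)) (BT.leaf pT314)) (BT.node 316 (BT.node 315 (BT.leaf pT315) (BT.leaf pT316)) (BT.leaf pT317)))) (BT.node 323 (BT.node 320 (BT.node 319 (BT.node 318 (BT.leaf pT318) (BT.leaf pT319)) (BT.leaf pT320)) (BT.node 322 (BT.node 321 (BT.leaf pT321) (BT.leaf pT322)) (BT.leaf pT323))) (BT.node 326 (BT.node 325 (BT.node 324 (BT.leaf pT324) (BT.leaf pT325)) (BT.leaf pT326)) (BT.node 327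 (BT.leaf pT327) (BT.leaf pT328)))))) (BT.node 352 (BT.node 340 (BT.node 334 (BT.node 331 (BT.node 330 (BT.node 329 (BT.leaf pT329) (BT.leaf pT330)) (BT.leaf pT331)) (BT.node 333 (BT.node 332 (BT.leaf pT332) (BT.leaf pT333)) (BT.leaf pT334))) (BT.node 337 (BT.node 336 (BT.node 335 (BT.leaf pT335) (BT.leaf pT336)) (BT.leaf pT337)) (BT.node 339 (BT.node 338 (BT.leaf pT338) (BT.leaf pT339)) (BT.leaf pT340)))) (BT.node 346 (BT.node 343 (BT.node 342 (BT.node 341 (BT.leaf pT341) (BT.leaf pT342)) (BT.leaf pT343)) (BT.node 345 (BT.node 344 (BT.leaf pT344) (BT.leaf pT345)) (BT.leaf pT346))) (BT.node 349 (BT.node 348 (BT.node 347 (BT.leaf pT347) (BT.leaf pT348)) (BT.leaf pT349)) (BT.node 351 (BT.node 350 (BT.leaf pT350) (BT.leaf pT351)) (BT.leaf pT352))))) (BT.node 364 (BT.node 358 (BT.node 355 (BT.node 354 (BT.node 353 (BT.leaf pT353) (BT.leaf pT354)) (BT.leaf pT355)) (BT.node 357 (BT.node 356 (BT.leaf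 pT356) (BT.leaf pT357)) (BT.leaf pT358))) (BT.node 361 (BT.node 360 (BT.node 359 (BT.leaf pT359) (BT.leaf pT360)) (BT.leaf pT361)) (BT.node 363 (BT.node 362 (BT.leaf pT362) (BT.leaf pT363)) (BT.leaf pT364)))) (BT.node 370 (BT.node 367 (BT.node 366 (BT.node 365 (BT.leaf pT365) (BT.leaf pT366)) (BT.leaf pT367)) (BT.node 369 (BT.node 368 (BT.leaf pT368) (BT.leaf pT369)) (BT.leaf pT370))) (BT.node 373 (BT.node 372 (BT.node 371 (BT.leaf pT371) (BT.leaf pT372)) (BT.leaf pT373)) (BT.node 374 (BT.leaf pT374) (BT.leaf pT375)))))))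
/-- tree chunks 376..469 -/
noncomputable def treeT_4 : BT ℕ := (BT.node 422 (BT.node 399 (BT.node 387 (BT.node 381 (BT.node 378 (BT.node 377 (BT.node 376 (BT.leaf pT376) (BT.leaf pT377)) (BT.leaf pT378)) (BT.node 380 (BT.node 379 (BT.leaf pT379) (BT.leaf pT380)) (BT.leaf pT381))) (BT.node 384 (BT.node 383 (BT.node 382 (BT.leaf pT382) (BT.leaf pT383)) (BT.leaf pT384)) (BT.node 386 (BT.node 385 (BT.leaf pT385) (BT.leaf pT386)) (BT.leaf pT387)))) (BT.node 393 (BT.node 390 (BT.node 389 (BT.node 388 (BT.leaf pT388) (BT.leaf pT389)) (BT.leaf pT390)) (BT.node 392 (BT.node 391 (BT.leaf pT391) (BT.leaf pT392)) (BT.leaf pT393))) (BT.node 396 (BT.node 395 (BT.node 394 (BT.leaf pT394) (BT.leaf pT395)) (BT.leaf pT396)) (BT.node 398 (BT.node 397 (BT.leaf pT397) (BT.leaf pT398)) (BT.leaf pT399))))) (BT.node 411 (BT.node 405 (BT.node 402 (BT.node 401 (BT.node 400 (BT.leaf pT400) (BT.leaf pT401)) (BT.leaf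 pT402)) (BT.node 404 (BT.node 403 (BT.leaf pT403) (BT.leaf pT404)) (BT.leaf pT405))) (BT.node 408 (BT.node 407 (BT.node 406 (BT.leaf pT406) (BT.leaf pT407)) (BT.leaf pT408)) (BT.node 410 (BT.node 409 (BT.leaf pT409) (BT.leaf pT410)) (BT.leaf pT411)))) (BT.node 417 (BT.node 414 (BT.node 413 (BT.node 412 (BT.leaf pT412) (BT.leaf pT413)) (BT.leaf pT414)) (BT.node 416 (BT.node 415 (BT.leaf pT415) (BT.leaf pT416)) (BT.leaf pT417))) (BT.node 420 (BT.node 419 (BT.node 418 (BT.leaf pT418) (BT.leaf pT419)) (BT.leaf pT420)) (BT.node 421 (BT.leaf pT421) (BT.leaf pT422)))))) (BT.node 446 (BT.node 434 (BT.node 428 (BT.node 425 (BT.node 424 (BT.node 423 (BT.leaf pT423) (BT.leaf pT424)) (BT.leaf pT425)) (BT.node 427 (BT.node 426 (BT.leaf pT426) (BT.leaf pT427)) (BT.leaf pT428))) (BT.node 431 (BT.node 430 (BT.node 429 (BT.leaf pT429) (BT.leaf pT430)) (BT.leaf pT431)) (BT.node 433 (BT.node 432 (BT.leaf pT432)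 (BT.leaf pT433)) (BT.leaf pT434)))) (BT.node 440 (BT.node 437 (BT.node 436 (BT.node 435 (BT.leaf pT435) (BT.leaf pT436)) (BT.leaf pT437)) (BT.node 439 (BT.node 438 (BT.leaf pT438) (BT.leaf pT439)) (BT.leaf pT440))) (BT.node 443 (BT.node 442 (BT.node 441 (BT.leaf pT441) (BT.leaf pT442)) (BT.leaf pT443)) (BT.node 445 (BT.node 444 (BT.leaf pT444) (BT.leaf pT445)) (BT.leaf pT446))))) (BT.node 458 (BT.node 452 (BT.node 449 (BT.node 448 (BT.node 447 (BT.leaf pT447) (BT.leaf pT448)) (BT.leaf pT449)) (BT.node 451 (BT.node 450 (BT.leaf pT450) (BT.leaf pT451)) (BT.leaf pT452))) (BT.node 455 (BT.node 454 (BT.node 453 (BT.leaf pT453) (BT.leaf pT454)) (BT.leaf pT455)) (BT.node 457 (BT.node 456 (BT.leaf pT456) (BT.leaf pT457)) (BT.leaf pT458)))) (BT.node 464 (BT.node 461 (BT.node 460 (BT.node 459 (BT.leaf pT459) (BT.leaf pT460)) (BT.leaf pT461)) (BT.node 463 (BT.node 462 (BT.leaf pT462) (BT.leaf pT463))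 (BT.leaf pT464))) (BT.node 467 (BT.node 466 (BT.node 465 (BT.leaf pT465) (BT.leaf pT466)) (BT.leaf pT467)) (BT.node 468 (BT.leaf pT468) (BT.leaf pT469)))))))
/-- tree chunks 470..563 -/
noncomputable def treeT_5 : BT ℕ := (BT.node 516 (BT.node 493 (BT.node 481 (BT.node 475 (BT.node 472 (BT.node 471 (BT.node 470 (BT.leaf pT470) (BT.leaf pT471)) (BT.leaf pT472)) (BT.node 474 (BT.node 473 (BT.leaf pT473) (BT.leaf pT474)) (BT.leaf pT475))) (BT.node 478 (BT.node 477 (BT.node 476 (BT.leaf pT476) (BT.leaf pT477)) (BT.leaf pT478)) (BT.node 480 (BT.node 479 (BT.leaf pT479) (BT.leaf pT480)) (BT.leaf pT481)))) (BT.node 487 (BT.node 484 (BT.node 483 (BT.node 482 (BT.leaf pT482) (BT.leaf pT483)) (BT.leaf pT484)) (BT.node 486 (BT.node 485 (BT.leaf pT485) (BT.leaf pT486)) (BT.leaf pT487))) (BT.node 490 (BT.node 489 (BT.node 488 (BT.leaf pT488) (BT.leaf pT489)) (BT.leaf pT490)) (BT.node 492 (BT.node 491 (BT.leaf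 pT491) (BT.leaf pT492)) (BT.leaf pT493))))) (BT.node 505 (BT.node 499 (BT.node 496 (BT.node 495 (BT.node 494 (BT.leaf pT494) (BT.leaf pT495)) (BT.leaf pT496)) (BT.node 498 (BT.node 497 (BT.leaf pT497) (BT.leaf pT498)) (BT.leaf pT499))) (BT.node 502 (BT.node 501 (BT.node 500 (BT.leaf pT500) (BT.leaf pT501)) (BT.leaf pT502)) (BT.node 504 (BT.node 503 (BT.leaf pT503) (BT.leaf pT504)) (BT.leaf pT505)))) (BT.node 511 (BT.node 508 (BT.node 507 (BT.node 506 (BT.leaf pT506) (BT.leaf pT507)) (BT.leaf pT508)) (BT.node 510 (BT.node 509 (BT.leaf pT509) (BT.leaf pT510)) (BT.leaf pT511))) (BT.node 514 (BT.node 513 (BT.node 512 (BT.leaf pT512) (BT.leaf pT513)) (BT.leaf pT514)) (BT.node 515 (BT.leaf pT515) (BT.leaf pT516)))))) (BT.node 540 (BT.node 528 (BT.node 522 (BT.node 519 (BT.node 518 (BT.node 517 (BT.leaf pT517) (BT.leaf pT518)) (BT.leaf pT519)) (BT.node 521 (BT.node 520 (BT.leaf pT520) (BT.leaf pT521))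 (BT.leaf pT522))) (BT.node 525 (BT.node 524 (BT.node 523 (BT.leaf pT523) (BT.leaf pT524)) (BT.leaf pT525)) (BT.node 527 (BT.node 526 (BT.leaf pT526) (BT.leaf pT527)) (BT.leaf pT528)))) (BT.node 534 (BT.node 531 (BT.node 530 (BT.node 529 (BT.leaf pT529) (BT.leaf pT530)) (BT.leaf pT531)) (BT.node 533 (BT.node 532 (BT.leaf pT532) (BT.leaf pT533)) (BT.leaf pT534))) (BT.node 537 (BT.node 536 (BT.node 535 (BT.leaf pT535) (BT.leaf pT536)) (BT.leaf pT537)) (BT.node 539 (BT.node 538 (BT.leaf pT538) (BT.leaf pT539)) (BT.leaf pT540))))) (BT.node 552 (BT.node 546 (BT.node 543 (BT.node 542 (BT.node 541 (BT.leaf pT541) (BT.leaf pT542)) (BT.leaf pT543)) (BT.node 545 (BT.node 544 (BT.leaf pT544) (BT.leaf pT545)) (BT.leaf pT546))) (BT.node 549 (BT.node 548 (BT.node 547 (BT.leaf pT547) (BT.leaf pT548)) (BT.leaf pT549)) (BT.node 551 (BT.node 550 (BT.leaf pT550) (BT.leaf pT551)) (BT.leaf pT552)))) (BT.node 558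 (BT.node 555 (BT.node 554 (BT.node 553 (BT.leaf pT553) (BT.leaf pT554)) (BT.leaf pT555)) (BT.node 557 (BT.node 556 (BT.leaf pT556) (BT.leaf pT557)) (BT.leaf pT558))) (BT.node 561 (BT.node 560 (BT.node 559 (BT.leaf pT559) (BT.leaf pT560)) (BT.leaf pT561)) (BT.node 562 (BT.leaf pT562) (BT.leaf pT563)))))))
/-- tree chunks 564..657 -/
noncomputable def treeT_6 : BT ℕ := (BT.node 610 (BT.node 587 (BT.node 575 (BT.node 569 (BT.node 566 (BT.node 565 (BT.node 564 (BT.leaf pT564) (BT.leaf pT565)) (BT.leaf pT566)) (BT.node 568 (BT.node 567 (BT.leaf pT567) (BT.leaf pT568)) (BT.leaf pT569))) (BT.node 572 (BT.node 571 (BT.node 570 (BT.leaf pT570) (BT.leaf pT571)) (BT.leaf pT572)) (BT.node 574 (BT.node 573 (BT.leaf pT573) (BT.leaf pT574)) (BT.leaf pT575)))) (BT.node 581 (BT.node 578 (BT.node 577 (BT.node 576 (BT.leaf pT576) (BT.leaf pT577)) (BT.leaf pT578)) (BT.node 580 (BT.node 579 (BT.leaf pT579) (BT.leaf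 pT580)) (BT.leaf pT581))) (BT.node 584 (BT.node 583 (BT.node 582 (BT.leaf pT582) (BT.leaf pT583)) (BT.leaf pT584)) (BT.node 586 (BT.node 585 (BT.leaf pT585) (BT.leaf pT586)) (BT.leaf pT587))))) (BT.node 599 (BT.node 593 (BT.node 590 (BT.node 589 (BT.node 588 (BT.leaf pT588) (BT.leaf pT589)) (BT.leaf pT590)) (BT.node 592 (BT.node 591 (BT.leaf pT591) (BT.leaf pT592)) (BT.leaf pT593))) (BT.node 596 (BT.node 595 (BT.node 594 (BT.leaf pT594) (BT.leaf pT595)) (BT.leaf pT596)) (BT.node 598 (BT.node 597 (BT.leaf pT597) (BT.leaf pT598)) (BT.leaf pT599)))) (BT.node 605 (BT.node 602 (BT.node 601 (BT.node 600 (BT.leaf pT600) (BT.leaf pT601)) (BT.leaf pT602)) (BT.node 604 (BT.node 603 (BT.leaf pT603) (BT.leaf pT604)) (BT.leaf pT605))) (BT.node 608 (BT.node 607 (BT.node 606 (BT.leaf pT606) (BT.leaf pT607)) (BT.leaf pT608)) (BT.node 609 (BT.leaf pT609) (BT.leaf pT610)))))) (BT.node 634 (BT.node 622 (BT.node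 616 (BT.node 613 (BT.node 612 (BT.node 611 (BT.leaf pT611) (BT.leaf pT612)) (BT.leaf pT613)) (BT.node 615 (BT.node 614 (BT.leaf pT614) (BT.leaf pT615)) (BT.leaf pT616))) (BT.node 619 (BT.node 618 (BT.node 617 (BT.leaf pT617) (BT.leaf pT618)) (BT.leaf pT619)) (BT.node 621 (BT.node 620 (BT.leaf pT620) (BT.leaf pT621)) (BT.leaf pT622)))) (BT.node 628 (BT.node 625 (BT.node 624 (BT.node 623 (BT.leaf pT623) (BT.leaf pT624)) (BT.leaf pT625)) (BT.node 627 (BT.node 626 (BT.leaf pT626) (BT.leaf pT627)) (BT.leaf pT628))) (BT.node 631 (BT.node 630 (BT.node 629 (BT.leaf pT629) (BT.leaf pT630)) (BT.leaf pT631)) (BT.node 633 (BT.node 632 (BT.leaf pT632) (BT.leaf pT633)) (BT.leaf pT634))))) (BT.node 646 (BT.node 640 (BT.node 637 (BT.node 636 (BT.node 635 (BT.leaf pT635) (BT.leaf pT636)) (BT.leaf pT637)) (BT.node 639 (BT.node 638 (BT.leaf pT638) (BT.leaf pT639)) (BT.leaf pT640))) (BT.node 643 (BT.node 642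 (BT.node 641 (BT.leaf pT641) (BT.leaf pT642)) (BT.leaf pT643)) (BT.node 645 (BT.node 644 (BT.leaf pT644) (BT.leaf pT645)) (BT.leaf pT646)))) (BT.node 652 (BT.node 649 (BT.node 648 (BT.node 647 (BT.leaf pT647) (BT.leaf pT648)) (BT.leaf pT649)) (BT.node 651 (BT.node 650 (BT.leaf pT650) (BT.leaf pT651)) (BT.leaf pT652))) (BT.node 655 (BT.node 654 (BT.node 653 (BT.leaf pT653) (BT.leaf pT654)) (BT.leaf pT655)) (BT.node 656 (BT.leaf pT656) (BT.leaf pT657)))))))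
/-- tree chunks 658..751 -/
noncomputable def treeT_7 : BT ℕ := (BT.node 704 (BT.node 681 (BT.node 669 (BT.node 663 (BT.node 660 (BT.node 659 (BT.node 658 (BT.leaf pT658) (BT.leaf pT659)) (BT.leaf pT660)) (BT.node 662 (BT.node 661 (BT.leaf pT661) (BT.leaf pT662)) (BT.leaf pT663))) (BT.node 666 (BT.node 665 (BT.node 664 (BT.leaf pT664) (BT.leaf pT665)) (BT.leaf pT666)) (BT.node 668 (BT.node 667 (BT.leaf pT667) (BT.leaf pT668)) (BT.leaf pT669)))) (BT.node 675 (BT.node 672 (BT.node 671 (BT.node 670 (BT.leaf pT670) (BT.leaf pT671)) (BT.leaf pT672)) (BT.node 674 (BT.node 673 (BT.leaf pT673) (BT.leaf pT674)) (BT.leaf pT675))) (BT.node 678 (BT.node 677 (BT.node 676 (BT.leaf pT676) (BT.leaf pT677)) (BT.leaf pT678)) (BT.node 680 (BT.node 679 (BT.leaf pT679) (BT.leaf pT680)) (BT.leaf pT681))))) (BT.node 693 (BT.node 687 (BT.node 684 (BT.node 683 (BT.node 682 (BT.leaf pT682) (BT.leaf pT683)) (BT.leaf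 pT684)) (BT.node 686 (BT.node 685 (BT.leaf pT685) (BT.leaf pT686)) (BT.leaf pT687))) (BT.node 690 (BT.node 689 (BT.node 688 (BT.leaf pT688) (BT.leaf pT689)) (BT.leaf pT690)) (BT.node 692 (BT.node 691 (BT.leaf pT691) (BT.leaf pT692)) (BT.leaf pT693)))) (BT.node 699 (BT.node 696 (BT.node 695 (BT.node 694 (BT.leaf pT694) (BT.leaf pT695)) (BT.leaf pT696)) (BT.node 698 (BT.node 697 (BT.leaf pT697) (BT.leaf pT698)) (BT.leaf pT699))) (BT.node 702 (BT.node 701 (BT.node 700 (BT.leaf pT700) (BT.leaf pT701)) (BT.leaf pT702)) (BT.node 703 (BT.leaf pT703) (BT.leaf pT704)))))) (BT.node 728 (BT.node 716 (BT.node 710 (BT.node 707 (BT.node 706 (BT.node 705 (BT.leaf pT705) (BT.leaf pT706)) (BT.leaf pT707)) (BT.node 709 (BT.node 708 (BT.leaf pT708) (BT.leaf pT709)) (BT.leaf pT710))) (BT.node 713 (BT.node 712 (BT.node 711 (BT.leaf pT711) (BT.leaf pT712)) (BT.leaf pT713)) (BT.node 715 (BT.node 714 (BT.leaf pT714)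 (BT.leaf pT715)) (BT.leaf pT716)))) (BT.node 722 (BT.node 719 (BT.node 718 (BT.node 717 (BT.leaf pT717) (BT.leaf pT718)) (BT.leaf pT719)) (BT.node 721 (BT.node 720 (BT.leaf pT720) (BT.leaf pT721)) (BT.leaf pT722))) (BT.node 725 (BT.node 724 (BT.node 723 (BT.leaf pT723) (BT.leaf pT724)) (BT.leaf pT725)) (BT.node 727 (BT.node 726 (BT.leaf pT726) (BT.leaf pT727)) (BT.leaf pT728))))) (BT.node 740 (BT.node 734 (BT.node 731 (BT.node 730 (BT.node 729 (BT.leaf pT729) (BT.leaf pT730)) (BT.leaf pT731)) (BT.node 733 (BT.node 732 (BT.leaf pT732) (BT.leaf pT733)) (BT.leaf pT734))) (BT.node 737 (BT.node 736 (BT.node 735 (BT.leaf pT735) (BT.leaf pT736)) (BT.leaf pT737)) (BT.node 739 (BT.node 738 (BT.leaf pT738) (BT.leaf pT739)) (BT.leaf pT740)))) (BT.node 746 (BT.node 743 (BT.node 742 (BT.node 741 (BT.leaf pT741) (BT.leaf pT742)) (BT.leaf pT743)) (BT.node 745 (BT.node 744 (BT.leaf pT744) (BT.leaf pT745))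 (BT.leaf pT746))) (BT.node 749 (BT.node 748 (BT.node 747 (BT.leaf pT747) (BT.leaf pT748)) (BT.leaf pT749)) (BT.node 750 (BT.leaf pT750) (BT.leaf pT751)))))))
/-- tree chunks 752..845 -/
noncomputable def treeT_8 : BT ℕ := (BT.node 798 (BT.node 775 (BT.node 763 (BT.node 757 (BT.node 754 (BT.node 753 (BT.node 752 (BT.leaf pT752) (BT.leaf pT753)) (BT.leaf pT754)) (BT.node 756 (BT.node 755 (BT.leaf pT755) (BT.leaf pT756)) (BT.leaf pT757))) (BT.node 760 (BT.node 759 (BT.node 758 (BT.leaf pT758) (BT.leaf pT759)) (BT.leaf pT760)) (BT.node 762 (BT.node 761 (BT.leaf pT761) (BT.leaf pT762)) (BT.leaf pT763)))) (BT.node 769 (BT.node 766 (BT.node 765 (BT.node 764 (BT.leaf pT764) (BT.leaf pT765)) (BT.leaf pT766)) (BT.node 768 (BT.node 767 (BT.leaf pT767) (BT.leaf pT768)) (BT.leaf pT769))) (BT.node 772 (BT.node 771 (BT.node 770 (BT.leaf pT770) (BT.leaf pT771)) (BT.leaf pT772)) (BT.node 774 (BT.node 773 (BT.leaf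 pT773) (BT.leaf pT774)) (BT.leaf pT775))))) (BT.node 787 (BT.node 781 (BT.node 778 (BT.node 777 (BT.node 776 (BT.leaf pT776) (BT.leaf pT777)) (BT.leaf pT778)) (BT.node 780 (BT.node 779 (BT.leaf pT779) (BT.leaf pT780)) (BT.leaf pT781))) (BT.node 784 (BT.node 783 (BT.node 782 (BT.leaf pT782) (BT.leaf pT783)) (BT.leaf pT784)) (BT.node 786 (BT.node 785 (BT.leaf pT785) (BT.leaf pT786)) (BT.leaf pT787)))) (BT.node 793 (BT.node 790 (BT.node 789 (BT.node 788 (BT.leaf pT788) (BT.leaf pT789)) (BT.leaf pT790)) (BT.node 792 (BT.node 791 (BT.leaf pT791) (BT.leaf pT792)) (BT.leaf pT793))) (BT.node 796 (BT.node 795 (BT.node 794 (BT.leaf pT794) (BT.leaf pT795)) (BT.leaf pT796)) (BT.node 797 (BT.leaf pT797) (BT.leaf pT798)))))) (BT.node 822 (BT.node 810 (BT.node 804 (BT.node 801 (BT.node 800 (BT.node 799 (BT.leaf pT799) (BT.leaf pT800)) (BT.leaf pT801)) (BT.node 803 (BT.node 802 (BT.leaf pT802) (BT.leaf pT803))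 (BT.leaf pT804))) (BT.node 807 (BT.node 806 (BT.node 805 (BT.leaf pT805) (BT.leaf pT806)) (BT.leaf pT807)) (BT.node 809 (BT.node 808 (BT.leaf pT808) (BT.leaf pT809)) (BT.leaf pT810)))) (BT.node 816 (BT.node 813 (BT.node 812 (BT.node 811 (BT.leaf pT811) (BT.leaf pT812)) (BT.leaf pT813)) (BT.node 815 (BT.node 814 (BT.leaf pT814) (BT.leaf pT815)) (BT.leaf pT816))) (BT.node 819 (BT.node 818 (BT.node 817 (BT.leaf pT817) (BT.leaf pT818)) (BT.leaf pT819)) (BT.node 821 (BT.node 820 (BT.leaf pT820) (BT.leaf pT821)) (BT.leaf pT822))))) (BT.node 834 (BT.node 828 (BT.node 825 (BT.node 824 (BT.node 823 (BT.leaf pT823) (BT.leaf pT824)) (BT.leaf pT825)) (BT.node 827 (BT.node 826 (BT.leaf pT826) (BT.leaf pT827)) (BT.leaf pT828))) (BT.node 831 (BT.node 830 (BT.node 829 (BT.leaf pT829) (BT.leaf pT830)) (BT.leaf pT831)) (BT.node 833 (BT.node 832 (BT.leaf pT832) (BT.leaf pT833)) (BT.leaf pT834)))) (BT.node 840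 (BT.node 837 (BT.node 836 (BT.node 835 (BT.leaf pT835) (BT.leaf pT836)) (BT.leaf pT837)) (BT.node 839 (BT.node 838 (BT.leaf pT838) (BT.leaf pT839)) (BT.leaf pT840))) (BT.node 843 (BT.node 842 (BT.node 841 (BT.leaf pT841) (BT.leaf pT842)) (BT.leaf pT843)) (BT.node 844 (BT.leaf pT844) (BT.leaf pT845)))))))
/-- tree chunks 846..939 -/
noncomputable def treeT_9 : BT ℕ := (BT.node 892 (BT.node 869 (BT.node 857 (BT.node 851 (BT.node 848 (BT.node 847 (BT.node 846 (BT.leaf pT846) (BT.leaf pT847)) (BT.leaf pT848)) (BT.node 850 (BT.node 849 (BT.leaf pT849) (BT.leaf pT850)) (BT.leaf pT851))) (BT.node 854 (BT.node 853 (BT.node 852 (BT.leaf pT852) (BT.leaf pT853)) (BT.leaf pT854)) (BT.node 856 (BT.node 855 (BT.leaf pT855) (BT.leaf pT856)) (BT.leaf pT857)))) (BT.node 863 (BT.node 860 (BT.node 859 (BT.node 858 (BT.leaf pT858) (BT.leaf pT859)) (BT.leaf pT860)) (BT.node 862 (BT.node 861 (BT.leaf pT861) (BT.leaf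 pT862)) (BT.leaf pT863))) (BT.node 866 (BT.node 865 (BT.node 864 (BT.leaf pT864) (BT.leaf pT865)) (BT.leaf pT866)) (BT.node 868 (BT.node 867 (BT.leaf pT867) (BT.leaf pT868)) (BT.leaf pT869))))) (BT.node 881 (BT.node 875 (BT.node 872 (BT.node 871 (BT.node 870 (BT.leaf pT870) (BT.leaf pT871)) (BT.leaf pT872)) (BT.node 874 (BT.node 873 (BT.leaf pT873) (BT.leaf pT874)) (BT.leaf pT875))) (BT.node 878 (BT.node 877 (BT.node 876 (BT.leaf pT876) (BT.leaf pT877)) (BT.leaf pT878)) (BT.node 880 (BT.node 879 (BT.leaf pT879) (BT.leaf pT880)) (BT.leaf pT881)))) (BT.node 887 (BT.node 884 (BT.node 883 (BT.node 882 (BT.leaf pT882) (BT.leaf pT883)) (BT.leaf pT884)) (BT.node 886 (BT.node 885 (BT.leaf pT885) (BT.leaf pT886)) (BT.leaf pT887))) (BT.node 890 (BT.node 889 (BT.node 888 (BT.leaf pT888) (BT.leaf pT889)) (BT.leaf pT890)) (BT.node 891 (BT.leaf pT891) (BT.leaf pT892)))))) (BT.node 916 (BT.node 904 (BT.node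 898 (BT.node 895 (BT.node 894 (BT.node 893 (BT.leaf pT893) (BT.leaf pT894)) (BT.leaf pT895)) (BT.node 897 (BT.node 896 (BT.leaf pT896) (BT.leaf pT897)) (BT.leaf pT898))) (BT.node 901 (BT.node 900 (BT.node 899 (BT.leaf pT899) (BT.leaf pT900)) (BT.leaf pT901)) (BT.node 903 (BT.node 902 (BT.leaf pT902) (BT.leaf pT903)) (BT.leaf pT904)))) (BT.node 910 (BT.node 907 (BT.node 906 (BT.node 905 (BT.leaf pT905) (BT.leaf pT906)) (BT.leaf pT907)) (BT.node 909 (BT.node 908 (BT.leaf pT908) (BT.leaf pT909)) (BT.leaf pT910))) (BT.node 913 (BT.node 912 (BT.node 911 (BT.leaf pT911) (BT.leaf pT912)) (BT.leaf pT913)) (BT.node 915 (BT.node 914 (BT.leaf pT914) (BT.leaf pT915)) (BT.leaf pT916))))) (BT.node 928 (BT.node 922 (BT.node 919 (BT.node 918 (BT.node 917 (BT.leaf pT917) (BT.leaf pT918)) (BT.leaf pT919)) (BT.node 921 (BT.node 920 (BT.leaf pT920) (BT.leaf pT921)) (BT.leaf pT922))) (BT.node 925 (BT.node 924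 (BT.node 923 (BT.leaf pT923) (BT.leaf pT924)) (BT.leaf pT925)) (BT.node 927 (BT.node 926 (BT.leaf pT926) (BT.leaf pT927)) (BT.leaf pT928)))) (BT.node 934 (BT.node 931 (BT.node 930 (BT.node 929 (BT.leaf pT929) (BT.leaf pT930)) (BT.leaf pT931)) (BT.node 933 (BT.node 932 (BT.leaf pT932) (BT.leaf pT933)) (BT.leaf pT934))) (BT.node 937 (BT.node 936 (BT.node 935 (BT.leaf pT935) (BT.leaf pT936)) (BT.leaf pT937)) (BT.node 938 (BT.leaf pT938) (BT.leaf pT939)))))))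
/-- tree chunks 940..1033 -/
noncomputable def treeT_10 : BT ℕ := (BT.node 986 (BT.node 963 (BT.node 951 (BT.node 945 (BT.node 942 (BT.node 941 (BT.node 940 (BT.leaf pT940) (BT.leaf pT941)) (BT.leaf pT942)) (BT.node 944 (BT.node 943 (BT.leaf pT943) (BT.leaf pT944)) (BT.leaf pT945))) (BT.node 948 (BT.node 947 (BT.node 946 (BT.leaf pT946) (BT.leaf pT947)) (BT.leaf pT948)) (BT.node 950 (BT.node 949 (BT.leaf pT949) (BT.leaf pT950)) (BT.leaf pT951)))) (BT.node 957 (BT.node 954 (BT.node 953 (BT.node 952 (BT.leaf pT952) (BT.leaf pT953)) (BT.leaf pT954)) (BT.node 956 (BT.node 955 (BT.leaf pT955) (BT.leaf pT956)) (BT.leaf pT957))) (BT.node 960 (BT.node 959 (BT.node 958 (BT.leaf pT958) (BT.leaf pT959)) (BT.leaf pT960)) (BT.node 962 (BT.node 961 (BT.leaf pT961) (BT.leaf pT962)) (BT.leaf pT963))))) (BT.node 975 (BT.node 969 (BT.node 966 (BT.node 965 (BT.node 964 (BT.leaf pT964) (BT.leaf pT965)) (BT.leaf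 pT966)) (BT.node 968 (BT.node 967 (BT.leaf pT967) (BT.leaf pT968)) (BT.leaf pT969))) (BT.node 972 (BT.node 971 (BT.node 970 (BT.leaf pT970) (BT.leaf pT971)) (BT.leaf pT972)) (BT.node 974 (BT.node 973 (BT.leaf pT973) (BT.leaf pT974)) (BT.leaf pT975)))) (BT.node 981 (BT.node 978 (BT.node 977 (BT.node 976 (BT.leaf pT976) (BT.leaf pT977)) (BT.leaf pT978)) (BT.node 980 (BT.node 979 (BT.leaf pT979) (BT.leaf pT980)) (BT.leaf pT981))) (BT.node 984 (BT.node 983 (BT.node 982 (BT.leaf pT982) (BT.leaf pT983)) (BT.leaf pT984)) (BT.node 985 (BT.leaf pT985) (BT.leaf pT986)))))) (BT.node 1010 (BT.node 998 (BT.node 992 (BT.node 989 (BT.node 988 (BT.node 987 (BT.leaf pT987) (BT.leaf pT988)) (BT.leaf pT989)) (BT.node 991 (BT.node 990 (BT.leaf pT990) (BT.leaf pT991)) (BT.leaf pT992))) (BT.node 995 (BT.node 994 (BT.node 993 (BT.leaf pT993) (BT.leaf pT994)) (BT.leaf pT995)) (BT.node 997 (BT.node 996 (BT.leaf pT996)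 (BT.leaf pT997)) (BT.leaf pT998)))) (BT.node 1004 (BT.node 1001 (BT.node 1000 (BT.node 999 (BT.leaf pT999) (BT.leaf pT1000)) (BT.leaf pT1001)) (BT.node 1003 (BT.node 1002 (BT.leaf pT1002) (BT.leaf pT1003)) (BT.leaf pT1004))) (BT.node 1007 (BT.node 1006 (BT.node 1005 (BT.leaf pT1005) (BT.leaf pT1006)) (BT.leaf pT1007)) (BT.node 1009 (BT.node 1008 (BT.leaf pT1008) (BT.leaf pT1009)) (BT.leaf pT1010))))) (BT.node 1022 (BT.node 1016 (BT.node 1013 (BT.node 1012 (BT.node 1011 (BT.leaf pT1011) (BT.leaf pT1012)) (BT.leaf pT1013)) (BT.node 1015 (BT.node 1014 (BT.leaf pT1014) (BT.leaf pT1015)) (BT.leaf pT1016))) (BT.node 1019 (BT.node 1018 (BT.node 1017 (BT.leaf pT1017) (BT.leaf pT1018)) (BT.leaf pT1019)) (BT.node 1021 (BT.node 1020 (BT.leaf pT1020) (BT.leaf pT1021)) (BT.leaf pT1022)))) (BT.node 1028 (BT.node 1025 (BT.node 1024 (BT.node 1023 (BT.leaf pT1023) (BT.leaf pT1024)) (BT.leaf pT1025)) (BT.node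 1027 (BT.node 1026 (BT.leaf pT1026) (BT.leaf pT1027)) (BT.leaf pT1028))) (BT.node 1031 (BT.node 1030 (BT.node 1029 (BT.leaf pT1029) (BT.leaf pT1030)) (BT.leaf pT1031)) (BT.node 1032 (BT.leaf pT1032) (BT.leaf pT1033)))))))
/-- tree chunks 1034..1127 -/
noncomputable def treeT_11 : BT ℕ := (BT.node 1080 (BT.node 1057 (BT.node 1045 (BT.node 1039 (BT.node 1036 (BT.node 1035 (BT.node 1034 (BT.leaf pT1034) (BT.leaf pT1035)) (BT.leaf pT1036)) (BT.node 1038 (BT.node 1037 (BT.leaf pT1037) (BT.leaf pT1038)) (BT.leaf pT1039))) (BT.node 1042 (BT.node 1041 (BT.node 1040 (BT.leaf pT1040) (BT.leaf pT1041)) (BT.leaf pT1042)) (BT.node 1044 (BT.node 1043 (BT.leaf pT1043) (BT.leaf pT1044)) (BT.leaf pT1045)))) (BT.node 1051 (BT.node 1048 (BT.node 1047 (BT.node 1046 (BT.leaf pT1046) (BT.leaf pT1047)) (BT.leaf pT1048)) (BT.node 1050 (BT.node 1049 (BT.leaf pT1049) (BT.leaf pT1050)) (BT.leaf pT1051))) (BT.node 1054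 (BT.node 1053 (BT.node 1052 (BT.leaf pT1052) (BT.leaf pT1053)) (BT.leaf pT1054)) (BT.node 1056 (BT.node 1055 (BT.leaf pT1055) (BT.leaf pT1056)) (BT.leaf pT1057))))) (BT.node 1069 (BT.node 1063 (BT.node 1060 (BT.node 1059 (BT.node 1058 (BT.leaf pT1058) (BT.leaf pT1059)) (BT.leaf pT1060)) (BT.node 1062 (BT.node 1061 (BT.leaf pT1061) (BT.leaf pT1062)) (BT.leaf pT1063))) (BT.node 1066 (BT.node 1065 (BT.node 1064 (BT.leaf pT1064) (BT.leaf pT1065)) (BT.leaf pT1066)) (BT.node 1068 (BT.node 1067 (BT.leaf pT1067) (BT.leaf pT1068)) (BT.leaf pT1069)))) (BT.node 1075 (BT.node 1072 (BT.node 1071 (BT.node 1070 (BT.leaf pT1070) (BT.leaf pT1071)) (BT.leaf pT1072)) (BT.node 1074 (BT.node 1073 (BT.leaf pT1073) (BT.leaf pT1074)) (BT.leaf pT1075))) (BT.node 1078 (BT.node 1077 (BT.node 1076 (BT.leaf pT1076) (BT.leaf pT1077)) (BT.leaf pT1078)) (BT.node 1079 (BT.leaf pT1079) (BT.leaf pT1080)))))) (BT.node 1104 (BT.node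 1092 (BT.node 1086 (BT.node 1083 (BT.node 1082 (BT.node 1081 (BT.leaf pT1081) (BT.leaf pT1082)) (BT.leaf pT1083)) (BT.node 1085 (BT.node 1084 (BT.leaf pT1084) (BT.leaf pT1085)) (BT.leaf pT1086))) (BT.node 1089 (BT.node 1088 (BT.node 1087 (BT.leaf pT1087) (BT.leaf pT1088)) (BT.leaf pT1089)) (BT.node 1091 (BT.node 1090 (BT.leaf pT1090) (BT.leaf pT1091)) (BT.leaf pT1092)))) (BT.node 1098 (BT.node 1095 (BT.node 1094 (BT.node 1093 (BT.leaf pT1093) (BT.leaf pT1094)) (BT.leaf pT1095)) (BT.node 1097 (BT.node 1096 (BT.leaf pT1096) (BT.leaf pT1097)) (BT.leaf pT1098))) (BT.node 1101 (BT.node 1100 (BT.node 1099 (BT.leaf pT1099) (BT.leaf pT1100)) (BT.leaf pT1101)) (BT.node 1103 (BT.node 1102 (BT.leaf pT1102) (BT.leaf pT1103)) (BT.leaf pT1104))))) (BT.node 1116 (BT.node 1110 (BT.node 1107 (BT.node 1106 (BT.node 1105 (BT.leaf pT1105) (BT.leaf pT1106)) (BT.leaf pT1107)) (BT.node 1109 (BT.node 1108 (BT.leaf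 pT1108) (BT.leaf pT1109)) (BT.leaf pT1110))) (BT.node 1113 (BT.node 1112 (BT.node 1111 (BT.leaf pT1111) (BT.leaf pT1112)) (BT.leaf pT1113)) (BT.node 1115 (BT.node 1114 (BT.leaf pT1114) (BT.leaf pT1115)) (BT.leaf pT1116)))) (BT.node 1122 (BT.node 1119 (BT.node 1118 (BT.node 1117 (BT.leaf pT1117) (BT.leaf pT1118)) (BT.leaf pT1119)) (BT.node 1121 (BT.node 1120 (BT.leaf pT1120) (BT.leaf pT1121)) (BT.leaf pT1122))) (BT.node 1125 (BT.node 1124 (BT.node 1123 (BT.leaf pT1123) (BT.leaf pT1124)) (BT.leaf pT1125)) (BT.node 1126 (BT.leaf pT1126) (BT.leaf pT1127)))))))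
/-- tree chunks 1128..1221 -/
noncomputable def treeT_12 : BT ℕ := (BT.node 1174 (BT.node 1151 (BT.node 1139 (BT.node 1133 (BT.node 1130 (BT.node 1129 (BT.node 1128 (BT.leaf pT1128) (BT.leaf pT1129)) (BT.leaf pT1130)) (BT.node 1132 (BT.node 1131 (BT.leaf pT1131) (BT.leaf pT1132)) (BT.leaf pT1133))) (BT.node 1136 (BT.node 1135 (BT.node 1134 (BT.leaf pT1134) (BT.leaf pT1135)) (BT.leaf pT1136)) (BT.node 1138 (BT.node 1137 (BT.leaf pT1137) (BT.leaf pT1138)) (BT.leaf pT1139)))) (BT.node 1145 (BT.node 1142 (BT.node 1141 (BT.node 1140 (BT.leaf pT1140) (BT.leaf pT1141)) (BT.leaf pT1142)) (BT.node 1144 (BT.node 1143 (BT.leaf pT1143) (BT.leaf pT1144)) (BT.leaf pT1145))) (BT.node 1148 (BT.node 1147 (BT.node 1146 (BT.leaf pT1146) (BT.leaf pT1147)) (BT.leaf pT1148)) (BT.node 1150 (BT.node 1149 (BT.leaf pT1149) (BT.leaf pT1150)) (BT.leaf pT1151))))) (BT.node 1163 (BT.node 1157 (BT.node 1154 (BT.node 1153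 (BT.node 1152 (BT.leaf pT1152) (BT.leaf pT1153)) (BT.leaf pT1154)) (BT.node 1156 (BT.node 1155 (BT.leaf pT1155) (BT.leaf pT1156)) (BT.leaf pT1157))) (BT.node 1160 (BT.node 1159 (BT.node 1158 (BT.leaf pT1158) (BT.leaf pT1159)) (BT.leaf pT1160)) (BT.node 1162 (BT.node 1161 (BT.leaf pT1161) (BT.leaf pT1162)) (BT.leaf pT1163)))) (BT.node 1169 (BT.node 1166 (BT.node 1165 (BT.node 1164 (BT.leaf pT1164) (BT.leaf pT1165)) (BT.leaf pT1166)) (BT.node 1168 (BT.node 1167 (BT.leaf pT1167) (BT.leaf pT1168)) (BT.leaf pT1169))) (BT.node 1172 (BT.node 1171 (BT.node 1170 (BT.leaf pT1170) (BT.leaf pT1171)) (BT.leaf pT1172)) (BT.node 1173 (BT.leaf pT1173) (BT.leaf pT1174)))))) (BT.node 1198 (BT.node 1186 (BT.node 1180 (BT.node 1177 (BT.node 1176 (BT.node 1175 (BT.leaf pT1175) (BT.leaf pT1176)) (BT.leaf pT1177)) (BT.node 1179 (BT.node 1178 (BT.leaf pT1178) (BT.leaf pT1179)) (BT.leaf pT1180))) (BT.node 1183 (BT.node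 1182 (BT.node 1181 (BT.leaf pT1181) (BT.leaf pT1182)) (BT.leaf pT1183)) (BT.node 1185 (BT.node 1184 (BT.leaf pT1184) (BT.leaf pT1185)) (BT.leaf pT1186)))) (BT.node 1192 (BT.node 1189 (BT.node 1188 (BT.node 1187 (BT.leaf pT1187) (BT.leaf pT1188)) (BT.leaf pT1189)) (BT.node 1191 (BT.node 1190 (BT.leaf pT1190) (BT.leaf pT1191)) (BT.leaf pT1192))) (BT.node 1195 (BT.node 1194 (BT.node 1193 (BT.leaf pT1193) (BT.leaf pT1194)) (BT.leaf pT1195)) (BT.node 1197 (BT.node 1196 (BT.leaf pT1196) (BT.leaf pT1197)) (BT.leaf pT1198))))) (BT.node 1210 (BT.node 1204 (BT.node 1201 (BT.node 1200 (BT.node 1199 (BT.leaf pT1199) (BT.leaf pT1200)) (BT.leaf pT1201)) (BT.node 1203 (BT.node 1202 (BT.leaf pT1202) (BT.leaf pT1203)) (BT.leaf pT1204))) (BT.node 1207 (BT.node 1206 (BT.node 1205 (BT.leaf pT1205) (BT.leaf pT1206)) (BT.leaf pT1207)) (BT.node 1209 (BT.node 1208 (BT.leaf pT1208) (BT.leaf pT1209)) (BT.leaf pT1210))))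 (BT.node 1216 (BT.node 1213 (BT.node 1212 (BT.node 1211 (BT.leaf pT1211) (BT.leaf pT1212)) (BT.leaf pT1213)) (BT.node 1215 (BT.node 1214 (BT.leaf pT1214) (BT.leaf pT1215)) (BT.leaf pT1216))) (BT.node 1219 (BT.node 1218 (BT.node 1217 (BT.leaf pT1217) (BT.leaf pT1218)) (BT.leaf pT1219)) (BT.node 1220 (BT.leaf pT1220) (BT.leaf pT1221)))))))
/-- tree chunks 1222..1315 -/
noncomputable def treeT_13 : BT ℕ := (BT.node 1268 (BT.node 1245 (BT.node 1233 (BT.node 1227 (BT.node 1224 (BT.node 1223 (BT.node 1222 (BT.leaf pT1222) (BT.leaf pT1223)) (BT.leaf pT1224)) (BT.node 1226 (BT.node 1225 (BT.leaf pT1225) (BT.leaf pT1226)) (BT.leaf pT1227))) (BT.node 1230 (BT.node 1229 (BT.node 1228 (BT.leaf pT1228) (BT.leaf pT1229)) (BT.leaf pT1230)) (BT.node 1232 (BT.node 1231 (BT.leaf pT1231) (BT.leaf pT1232)) (BT.leaf pT1233)))) (BT.node 1239 (BT.node 1236 (BT.node 1235 (BT.node 1234 (BT.leaf pT1234) (BT.leaf pT1235))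 (BT.leaf pT1236)) (BT.node 1238 (BT.node 1237 (BT.leaf pT1237) (BT.leaf pT1238)) (BT.leaf pT1239))) (BT.node 1242 (BT.node 1241 (BT.node 1240 (BT.leaf pT1240) (BT.leaf pT1241)) (BT.leaf pT1242)) (BT.node 1244 (BT.node 1243 (BT.leaf pT1243) (BT.leaf pT1244)) (BT.leaf pT1245))))) (BT.node 1257 (BT.node 1251 (BT.node 1248 (BT.node 1247 (BT.node 1246 (BT.leaf pT1246) (BT.leaf pT1247)) (BT.leaf pT1248)) (BT.node 1250 (BT.node 1249 (BT.leaf pT1249) (BT.leaf pT1250)) (BT.leaf pT1251))) (BT.node 1254 (BT.node 1253 (BT.node 1252 (BT.leaf pT1252) (BT.leaf pT1253)) (BT.leaf pT1254)) (BT.node 1256 (BT.node 1255 (BT.leaf pT1255) (BT.leaf pT1256)) (BT.leaf pT1257)))) (BT.node 1263 (BT.node 1260 (BT.node 1259 (BT.node 1258 (BT.leaf pT1258) (BT.leaf pT1259)) (BT.leaf pT1260)) (BT.node 1262 (BT.node 1261 (BT.leaf pT1261) (BT.leaf pT1262)) (BT.leaf pT1263))) (BT.node 1266 (BT.node 1265 (BT.node 1264 (BT.leaf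 pT1264) (BT.leaf pT1265)) (BT.leaf pT1266)) (BT.node 1267 (BT.leaf pT1267) (BT.leaf pT1268)))))) (BT.node 1292 (BT.node 1280 (BT.node 1274 (BT.node 1271 (BT.node 1270 (BT.node 1269 (BT.leaf pT1269) (BT.leaf pT1270)) (BT.leaf pT1271)) (BT.node 1273 (BT.node 1272 (BT.leaf pT1272) (BT.leaf pT1273)) (BT.leaf pT1274))) (BT.node 1277 (BT.node 1276 (BT.node 1275 (BT.leaf pT1275) (BT.leaf pT1276)) (BT.leaf pT1277)) (BT.node 1279 (BT.node 1278 (BT.leaf pT1278) (BT.leaf pT1279)) (BT.leaf pT1280)))) (BT.node 1286 (BT.node 1283 (BT.node 1282 (BT.node 1281 (BT.leaf pT1281) (BT.leaf pT1282)) (BT.leaf pT1283)) (BT.node 1285 (BT.node 1284 (BT.leaf pT1284) (BT.leaf pT1285)) (BT.leaf pT1286))) (BT.node 1289 (BT.node 1288 (BT.node 1287 (BT.leaf pT1287) (BT.leaf pT1288)) (BT.leaf pT1289)) (BT.node 1291 (BT.node 1290 (BT.leaf pT1290) (BT.leaf pT1291)) (BT.leaf pT1292))))) (BT.node 1304 (BT.node 1298 (BT.node 1295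 (BT.node 1294 (BT.node 1293 (BT.leaf pT1293) (BT.leaf pT1294)) (BT.leaf pT1295)) (BT.node 1297 (BT.node 1296 (BT.leaf pT1296) (BT.leaf pT1297)) (BT.leaf pT1298))) (BT.node 1301 (BT.node 1300 (BT.node 1299 (BT.leaf pT1299) (BT.leaf pT1300)) (BT.leaf pT1301)) (BT.node 1303 (BT.node 1302 (BT.leaf pT1302) (BT.leaf pT1303)) (BT.leaf pT1304)))) (BT.node 1310 (BT.node 1307 (BT.node 1306 (BT.node 1305 (BT.leaf pT1305) (BT.leaf pT1306)) (BT.leaf pT1307)) (BT.node 1309 (BT.node 1308 (BT.leaf pT1308) (BT.leaf pT1309)) (BT.leaf pT1310))) (BT.node 1313 (BT.node 1312 (BT.node 1311 (BT.leaf pT1311) (BT.leaf pT1312)) (BT.leaf pT1313)) (BT.node 1314 (BT.leaf pT1314) (BT.leaf pT1315)))))))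
/-- tree chunks 1316..1409 -/
noncomputable def treeT_14 : BT ℕ := (BT.node 1362 (BT.node 1339 (BT.node 1327 (BT.node 1321 (BT.node 1318 (BT.node 1317 (BT.node 1316 (BT.leaf pT1316) (BT.leaf pT1317)) (BT.leaf pT1318)) (BT.node 1320 (BT.node 1319 (BT.leaf pT1319) (BT.leaf pT1320)) (BT.leaf pT1321))) (BT.node 1324 (BT.node 1323 (BT.node 1322 (BT.leaf pT1322) (BT.leaf pT1323)) (BT.leaf pT1324)) (BT.node 1326 (BT.node 1325 (BT.leaf pT1325) (BT.leaf pT1326)) (BT.leaf pT1327)))) (BT.node 1333 (BT.node 1330 (BT.node 1329 (BT.node 1328 (BT.leaf pT1328) (BT.leaf pT1329)) (BT.leaf pT1330)) (BT.node 1332 (BT.node 1331 (BT.leaf pT1331) (BT.leaf pT1332)) (BT.leaf pT1333))) (BT.node 1336 (BT.node 1335 (BT.node 1334 (BT.leaf pT1334) (BT.leaf pT1335)) (BT.leaf pT1336)) (BT.node 1338 (BT.node 1337 (BT.leaf pT1337) (BT.leaf pT1338)) (BT.leaf pT1339))))) (BT.node 1351 (BT.node 1345 (BT.node 1342 (BT.node 1341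 (BT.node 1340 (BT.leaf pT1340) (BT.leaf pT1341)) (BT.leaf pT1342)) (BT.node 1344 (BT.node 1343 (BT.leaf pT1343) (BT.leaf pT1344)) (BT.leaf pT1345))) (BT.node 1348 (BT.node 1347 (BT.node 1346 (BT.leaf pT1346) (BT.leaf pT1347)) (BT.leaf pT1348)) (BT.node 1350 (BT.node 1349 (BT.leaf pT1349) (BT.leaf pT1350)) (BT.leaf pT1351)))) (BT.node 1357 (BT.node 1354 (BT.node 1353 (BT.node 1352 (BT.leaf pT1352) (BT.leaf pT1353)) (BT.leaf pT1354)) (BT.node 1356 (BT.node 1355 (BT.leaf pT1355) (BT.leaf pT1356)) (BT.leaf pT1357))) (BT.node 1360 (BT.node 1359 (BT.node 1358 (BT.leaf pT1358) (BT.leaf pT1359)) (BT.leaf pT1360)) (BT.node 1361 (BT.leaf pT1361) (BT.leaf pT1362)))))) (BT.node 1386 (BT.node 1374 (BT.node 1368 (BT.node 1365 (BT.node 1364 (BT.node 1363 (BT.leaf pT1363) (BT.leaf pT1364)) (BT.leaf pT1365)) (BT.node 1367 (BT.node 1366 (BT.leaf pT1366) (BT.leaf pT1367)) (BT.leaf pT1368))) (BT.node 1371 (BT.node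 1370 (BT.node 1369 (BT.leaf pT1369) (BT.leaf pT1370)) (BT.leaf pT1371)) (BT.node 1373 (BT.node 1372 (BT.leaf pT1372) (BT.leaf pT1373)) (BT.leaf pT1374)))) (BT.node 1380 (BT.node 1377 (BT.node 1376 (BT.node 1375 (BT.leaf pT1375) (BT.leaf pT1376)) (BT.leaf pT1377)) (BT.node 1379 (BT.node 1378 (BT.leaf pT1378) (BT.leaf pT1379)) (BT.leaf pT1380))) (BT.node 1383 (BT.node 1382 (BT.node 1381 (BT.leaf pT1381) (BT.leaf pT1382)) (BT.leaf pT1383)) (BT.node 1385 (BT.node 1384 (BT.leaf pT1384) (BT.leaf pT1385)) (BT.leaf pT1386))))) (BT.node 1398 (BT.node 1392 (BT.node 1389 (BT.node 1388 (BT.node 1387 (BT.leaf pT1387) (BT.leaf pT1388)) (BT.leaf pT1389)) (BT.node 1391 (BT.node 1390 (BT.leaf pT1390) (BT.leaf pT1391)) (BT.leaf pT1392))) (BT.node 1395 (BT.node 1394 (BT.node 1393 (BT.leaf pT1393) (BT.leaf pT1394)) (BT.leaf pT1395)) (BT.node 1397 (BT.node 1396 (BT.leaf pT1396) (BT.leaf pT1397)) (BT.leaf pT1398))))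 (BT.node 1404 (BT.node 1401 (BT.node 1400 (BT.node 1399 (BT.leaf pT1399) (BT.leaf pT1400)) (BT.leaf pT1401)) (BT.node 1403 (BT.node 1402 (BT.leaf pT1402) (BT.leaf pT1403)) (BT.leaf pT1404))) (BT.node 1407 (BT.node 1406 (BT.node 1405 (BT.leaf pT1405) (BT.leaf pT1406)) (BT.leaf pT1407)) (BT.node 1408 (BT.leaf pT1408) (BT.leaf pT1409)))))))
/-- tree chunks 1410..1502 -/
noncomputable def treeT_15 : BT ℕ := (BT.node 1456 (BT.node 1433 (BT.node 1421 (BT.node 1415 (BT.node 1412 (BT.node 1411 (BT.node 1410 (BT.leaf pT1410) (BT.leaf pT1411)) (BT.leaf pT1412)) (BT.node 1414 (BT.node 1413 (BT.leaf pT1413) (BT.leaf pT1414)) (BT.leaf pT1415))) (BT.node 1418 (BT.node 1417 (BT.node 1416 (BT.leaf pT1416) (BT.leaf pT1417)) (BT.leaf pT1418)) (BT.node 1420 (BT.node 1419 (BT.leaf pT1419) (BT.leaf pT1420)) (BT.leaf pT1421)))) (BT.node 1427 (BT.node 1424 (BT.node 1423 (BT.node 1422 (BT.leaf pT1422) (BT.leaf pT1423))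 (BT.leaf pT1424)) (BT.node 1426 (BT.node 1425 (BT.leaf pT1425) (BT.leaf pT1426)) (BT.leaf pT1427))) (BT.node 1430 (BT.node 1429 (BT.node 1428 (BT.leaf pT1428) (BT.leaf pT1429)) (BT.leaf pT1430)) (BT.node 1432 (BT.node 1431 (BT.leaf pT1431) (BT.leaf pT1432)) (BT.leaf pT1433))))) (BT.node 1445 (BT.node 1439 (BT.node 1436 (BT.node 1435 (BT.node 1434 (BT.leaf pT1434) (BT.leaf pT1435)) (BT.leaf pT1436)) (BT.node 1438 (BT.node 1437 (BT.leaf pT1437) (BT.leaf pT1438)) (BT.leaf pT1439))) (BT.node 1442 (BT.node 1441 (BT.node 1440 (BT.leaf pT1440) (BT.leaf pT1441)) (BT.leaf pT1442)) (BT.node 1444 (BT.node 1443 (BT.leaf pT1443) (BT.leaf pT1444)) (BT.leaf pT1445)))) (BT.node 1451 (BT.node 1448 (BT.node 1447 (BT.node 1446 (BT.leaf pT1446) (BT.leaf pT1447)) (BT.leaf pT1448)) (BT.node 1450 (BT.node 1449 (BT.leaf pT1449) (BT.leaf pT1450)) (BT.leaf pT1451))) (BT.node 1454 (BT.node 1453 (BT.node 1452 (BT.leaf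 pT1452) (BT.leaf pT1453)) (BT.leaf pT1454)) (BT.node 1455 (BT.leaf pT1455) (BT.leaf pT1456)))))) (BT.node 1479 (BT.node 1468 (BT.node 1462 (BT.node 1459 (BT.node 1458 (BT.node 1457 (BT.leaf pT1457) (BT.leaf pT1458)) (BT.leaf pT1459)) (BT.node 1461 (BT.node 1460 (BT.leaf pT1460) (BT.leaf pT1461)) (BT.leaf pT1462))) (BT.node 1465 (BT.node 1464 (BT.node 1463 (BT.leaf pT1463) (BT.leaf pT1464)) (BT.leaf pT1465)) (BT.node 1467 (BT.node 1466 (BT.leaf pT1466) (BT.leaf pT1467)) (BT.leaf pT1468)))) (BT.node 1474 (BT.node 1471 (BT.node 1470 (BT.node 1469 (BT.leaf pT1469) (BT.leaf pT1470)) (BT.leaf pT1471)) (BT.node 1473 (BT.node 1472 (BT.leaf pT1472) (BT.leaf pT1473)) (BT.leaf pT1474))) (BT.node 1477 (BT.node 1476 (BT.node 1475 (BT.leaf pT1475) (BT.leaf pT1476)) (BT.leaf pT1477)) (BT.node 1478 (BT.leaf pT1478) (BT.leaf pT1479))))) (BT.node 1491 (BT.node 1485 (BT.node 1482 (BT.node 1481 (BT.node 1480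 (BT.leaf pT1480) (BT.leaf pT1481)) (BT.leaf pT1482)) (BT.node 1484 (BT.node 1483 (BT.leaf pT1483) (BT.leaf pT1484)) (BT.leaf pT1485))) (BT.node 1488 (BT.node 1487 (BT.node 1486 (BT.leaf pT1486) (BT.leaf pT1487)) (BT.leaf pT1488)) (BT.node 1490 (BT.node 1489 (BT.leaf pT1489) (BT.leaf pT1490)) (BT.leaf pT1491)))) (BT.node 1497 (BT.node 1494 (BT.node 1493 (BT.node 1492 (BT.leaf pT1492) (BT.leaf pT1493)) (BT.leaf pT1494)) (BT.node 1496 (BT.node 1495 (BT.leaf pT1495) (BT.leaf pT1496)) (BT.leaf pT1497))) (BT.node 1500 (BT.node 1499 (BT.node 1498 (BT.leaf pT1498) (BT.leaf pT1499)) (BT.leaf pT1500)) (BT.node 1501 (BT.leaf pT1501) (BT.leaf pT1502)))))))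
/-- the tree -/
noncomputable def treeT : BT ℕ := (BT.node 751 (BT.node 375 (BT.node 187 (BT.node 93 treeT_0 treeT_1) (BT.node 281 treeT_2 treeT_3)) (BT.node 563 (BT.node 469 treeT_4 treeT_5) (BT.node 657 treeT_6 treeT_7))) (BT.node 1127 (BT.node 939 (BT.node 845 treeT_8 treeT_9) (BT.node 1033 treeT_10 treeT_11)) (BT.node 1315 (BT.node 1221 treeT_12 treeT_13) (BT.node 1409 treeT_14 treeT_15))))

/-- helper16's table with the tree added -/
noncomputable def tableT : Table where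
  n := 1539000
  k := 7
  w := 21
  M := 2097152
  CH := 1024
  NCH := 1503
  col := colTT
  inv := table.inv
  tw := 24
  TM := 16777216
  tree := treeT

end Cfsg.Agent.Lib.Helper21.HNTrans
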